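import Groth.Agent.Lib.NodeNF.Completion
import Groth.Agent.Lib.AdicExtra.Exact
import Groth.Agent.Lib.AdicExtra.Local

/-!
# Normal form of a node: the flat case
-/

set_option linter.style.haveILetI false

universe u

open IsLocalRing

namespace GrothLib.NodeNF

theorem exists_completion_quotient_map (B : Type u) [CommRing B] [IsNoetherianRing B] [IsLocalRing B]
    (J : Ideal B) :
    ∃ π : AdicCompletion (maximalIdeal B) B →+*
        AdicCompletion ((maximalIdeal B).map (Ideal.Quotient.mk J)) (B ⧸ J),
      Function.Surjective π ∧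
      ∀ b, π (algebraMap B _ b) = algebraMap (B ⧸ J) _ (Ideal.Quotient.mk J b) := by
  set I' := (maximalIdeal B).map (Ideal.Quotient.mk J) with hI'
  have hle : ∀ n, maximalIdeal B ^ n ≤ (I' ^ n).comap (Ideal.Quotient.mk J) := fun n => by
    rw [← Ideal.map_le_iff_le_comap, Ideal.map_pow]
  let f : (n : ℕ) → AdicCompletion (maximalIdeal B) B →+* (B ⧸ J) ⧸ I' ^ n := fun n =>
    (Ideal.quotientMap _ (Ideal.Quotient.mk J) (hle n)).comp
      (AdicCompletion.evalₐ (maximalIdeal B) n).toRingHom
  have hf : ∀ {m n : ℕ} (h : m ≤ n), (Ideal.Quotient.factorPow I' h).comp (f n) = f m := by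
    intro m n hmn
    ext x
    obtain ⟨c, rfl⟩ := AdicCompletion.mk_surjective _ _ x
    show Ideal.Quotient.factor (Ideal.pow_le_pow_right hmn)
        (Ideal.quotientMap _ (Ideal.Quotient.mk J) (hle n)
          (AdicCompletion.evalₐ (maximalIdeal B) n (AdicCompletion.mk _ _ c))) =
      Ideal.quotientMap _ (Ideal.Quotient.mk J) (hle m)
        (AdicCompletion.evalₐ (maximalIdeal B) m (AdicCompletion.mk _ _ c))
    rw [AdicCompletion.evalₐ_mk, AdicCompletion.evalₐ_mk, Ideal.quotientMap_mk, Ideal.quotientMap_mk,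
      Ideal.Quotient.factor_mk, Ideal.Quotient.eq, ← map_sub]
    have := (c.2 hmn).symm
    rw [SModEq.sub_mem, smul_eq_mul, Ideal.mul_top] at this
    exact hle m this
  let π := AdicCompletion.liftRingHom I' f (fun h => hf h)
  have hπ : ∀ b, π (algebraMap B _ b) = algebraMap (B ⧸ J) _ (Ideal.Quotient.mk J b) := fun b =>
    AdicCompletion.ext_evalₐ fun n => by
      rw [AdicCompletion.evalₐ_liftRingHom]
      simp [f, AdicCompletion.algebraMap_apply]
  refine ⟨π, ?_, hπ⟩
  set C := AdicCompletion I' (B ⧸ J)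
  have hfg : I'.FG := I'.fg_of_isNoetherianRing
  have hmap : (maximalIdeal (AdicCompletion (maximalIdeal B) B)).map π =
      I'.map (algebraMap (B ⧸ J) C) := by
    rw [AdicCompletion.maximalIdeal_eq_map, Ideal.map_map]
    exact (congrArg (fun g => (maximalIdeal B).map g) (RingHom.ext hπ)).trans (Ideal.map_map _ _).symm
  have : IsAdicComplete (I'.map (algebraMap (B ⧸ J) C)) C := AdicCompletion.isAdicComplete_self I' hfg
  have : IsHausdorff ((maximalIdeal (AdicCompletion (maximalIdeal B) B)).map π) C := by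
    rw [hmap]; infer_instance
  refine surjective_of_mk_map_comp_surjective (I := maximalIdeal (AdicCompletion (maximalIdeal B) B))
    π fun z => ?_
  obtain ⟨w, rfl⟩ := Ideal.Quotient.mk_surjective z
  obtain ⟨y, hy⟩ := Ideal.Quotient.mk_surjective (AdicCompletion.evalOneₐ I' w)
  obtain ⟨b, rfl⟩ := Ideal.Quotient.mk_surjective y
  refine ⟨algebraMap B _ b, Ideal.Quotient.eq.2 ?_⟩
  rw [hπ, hmap, ← AdicCompletion.ker_evalOneₐ_eq_map I' hfg, RingHom.mem_ker, map_sub, sub_eq_zero]
  exact ((AdicCompletion.evalOneₐ I').commutes _).trans hy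

/-- The special fibre of a node is the standard one. -/
theorem ker_le_of_surjective_fibre {R : Type u} [CommRing R] [IsLocalRing R] [IsNoetherianRing R]
    {k : Type u} [Field k] (res : R →+* k) (hres : Function.Surjective res)
    (hres' : RingHom.ker res = maximalIdeal R) {α : R} (hα : α ∈ maximalIdeal R)
    (χ : MvPowerSeries (Fin 2) R →+* (MvPowerSeries (Fin 2) k ⧸
      Ideal.span {(MvPowerSeries.X 0 * MvPowerSeries.X 1 : MvPowerSeries (Fin 2) k)}))
    (hχs : Function.Surjective χ) (hχC : ∀ a ∈ maximalIdeal R, χ (MvPowerSeries.C a) = 0)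
    (hχ : χ (MvPowerSeries.X 0 * MvPowerSeries.X 1 - MvPowerSeries.C α) = 0) :
    RingHom.ker χ ≤ (maximalIdeal R).map MvPowerSeries.C ⊔
      Ideal.span {(MvPowerSeries.X 0 * MvPowerSeries.X 1 - MvPowerSeries.C α :
        MvPowerSeries (Fin 2) R)} := by
  set J := (maximalIdeal R).map (MvPowerSeries.C (σ := Fin 2)) ⊔
      Ideal.span {(MvPowerSeries.X 0 * MvPowerSeries.X 1 - MvPowerSeries.C α :
        MvPowerSeries (Fin 2) R)} with hJ
  let red := MvPowerSeries.map (σ := Fin 2) res
  have hred : Function.Surjective red := by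
    intro g
    choose c hc using fun e => hres (MvPowerSeries.coeff e g)
    refine ⟨(show MvPowerSeries (Fin 2) R from c), MvPowerSeries.ext fun e => ?_⟩
    rw [MvPowerSeries.coeff_map]
    exact hc e
  let xy : MvPowerSeries (Fin 2) k := MvPowerSeries.X 0 * MvPowerSeries.X 1
  let ρ := (Ideal.Quotient.mk (Ideal.span {xy})).comp red
  have hρ : Function.Surjective ρ := Ideal.Quotient.mk_surjective.comp hred
  have hker : RingHom.ker ρ ≤ J := fun x hx => by
    rw [RingHom.mem_ker, RingHom.comp_apply, Ideal.Quotient.eq_zero_iff_mem,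
      Ideal.mem_span_singleton'] at hx
    obtain ⟨c, hc⟩ := hx
    obtain ⟨c', rfl⟩ := hred c
    have h0 : red (x - c' * (MvPowerSeries.X 0 * MvPowerSeries.X 1 - MvPowerSeries.C α)) = 0 := by
      simp only [map_sub, map_mul, red, MvPowerSeries.map_X, MvPowerSeries.map_C]
      rw [show res α = 0 from RingHom.mem_ker.1 (hres'.symm ▸ hα), map_zero, sub_zero]
      exact sub_eq_zero.2 hc.symm
    have h1 : x - c' * (MvPowerSeries.X 0 * MvPowerSeries.X 1 - MvPowerSeries.C α) ∈
        (maximalIdeal R).map (MvPowerSeries.C (σ := Fin 2)) :=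
      GrothLib.RamSam.mem_map_C (IsNoetherian.noetherian _) fun e => by
        rw [← hres', RingHom.mem_ker, ← MvPowerSeries.coeff_map]
        show MvPowerSeries.coeff e (red _) = 0
        rw [h0, map_zero]
    have := add_mem (Ideal.mem_sup_left (T := Ideal.span {_}) h1) (Ideal.mem_sup_right
      (Ideal.mul_mem_left _ c' (Ideal.mem_span_singleton_self
        (MvPowerSeries.X 0 * MvPowerSeries.X 1 - MvPowerSeries.C α))))
    simpa [hJ] using this
  have hJχ : J ≤ RingHom.ker χ := by
    refine sup_le (Ideal.map_le_iff_le_comap.2 fun a ha => hχC a ha) ?_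
    rw [Ideal.span_singleton_le_iff_mem]
    exact hχ
  let χ' := RingHom.liftOfSurjective ρ hρ ⟨χ, hker.trans hJχ⟩
  have hcomp : ∀ x, χ' (ρ x) = χ x := fun x =>
    RingHom.liftOfRightInverse_comp_apply _ _ _ _ _
  have hs' : Function.Surjective χ' := fun y => by
    obtain ⟨x, rfl⟩ := hχs y
    exact ⟨ρ x, hcomp x⟩
  have hinj := ringEndo_injective_of_surjective χ' hs'
  intro x hx
  refine hker ?_
  rw [RingHom.mem_ker] at hx ⊢
  exact hinj (by rw [hcomp, hx, map_zero])

/-- Nakayama for the kernel onto a flat algebra. -/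
theorem ker_eq_bot_of_flat {R Q S : Type u} [CommRing R] [CommRing Q] [IsLocalRing Q] [IsNoetherianRing Q]
    [CommRing S] [Algebra R Q] [Algebra R S] [Module.Flat R S] (J : Ideal R)
    (hJ : J.map (algebraMap R Q) ≤ maximalIdeal Q) (f : Q →ₐ[R] S) (hf : Function.Surjective f)
    (hker : RingHom.ker f ≤ J.map (algebraMap R Q)) : RingHom.ker f = ⊥ := by
  set K := RingHom.ker f
  let i : K.restrictScalars R →ₗ[R] Q := (K.restrictScalars R).subtype
  have hex : Function.Exact i f.toLinearMap := fun q =>
    ⟨fun h => ⟨⟨q, h⟩, rfl⟩, fun ⟨k, hk⟩ => hk ▸ k.2⟩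
  have h1 := GrothLib.AdicExtra.comap_smul_top_le_of_flat i f.toLinearMap
    Subtype.val_injective hf hex J
  refine Submodule.eq_bot_of_le_smul_of_le_jacobson_bot (J.map (algebraMap R Q)) K
    K.fg_of_isNoetherianRing ?_ (hJ.trans (maximalIdeal_le_jacobson _))
  intro x hx
  have h2 : (⟨x, hx⟩ : K.restrictScalars R) ∈ (J • ⊤ : Submodule R (K.restrictScalars R)) := by
    apply h1
    rw [Submodule.mem_comap, Ideal.smul_top_eq_map, Submodule.restrictScalars_mem]
    exact hker hx
  have h3 : x ∈ (J • (K.restrictScalars R) : Submodule R Q) := by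
    have := Submodule.mem_map_of_mem (f := i) h2
    rwa [Submodule.map_smul'', Submodule.map_top, Submodule.range_subtype] at this
  rw [← Submodule.restrictScalars_mem R, smul_eq_mul]
  refine Submodule.smul_le.2 (fun r hr n hn => ?_) h3
  rw [Submodule.restrictScalars_mem, Algebra.smul_def]
  exact Ideal.mul_mem_mul (Ideal.mem_map_of_mem _ hr) hn

/-- The flat node. -/
theorem exists_node_equiv (A B : Type u) [CommRing A] [IsLocalRing A] [IsNoetherianRing A]
    [CommRing B] [IsLocalRing B] [IsNoetherianRing B] [Algebra A B] [IsLocalHom (algebraMap A B)]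
    [Algebra (AdicCompletion (maximalIdeal A) A) (AdicCompletion (maximalIdeal B) B)]
    [IsScalarTower A (AdicCompletion (maximalIdeal A) A) (AdicCompletion (maximalIdeal B) B)]
    [Module.Flat A B]
    (e : AdicCompletion ((maximalIdeal B).map (Ideal.Quotient.mk
          ((maximalIdeal A).map (algebraMap A B))))
          (B ⧸ (maximalIdeal A).map (algebraMap A B)) ≃+*
        (MvPowerSeries (Fin 2) (ResidueField A) ⧸
          Ideal.span {(MvPowerSeries.X 0 * MvPowerSeries.X 1 : MvPowerSeries (Fin 2) (ResidueField A))}))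
    {α : AdicCompletion (maximalIdeal A) A} (hα : α ∈ maximalIdeal (AdicCompletion (maximalIdeal A) A))
    (f : (MvPowerSeries (Fin 2) (AdicCompletion (maximalIdeal A) A) ⧸ Ideal.span
          {(MvPowerSeries.X 0 * MvPowerSeries.X 1 - MvPowerSeries.C α :
              MvPowerSeries (Fin 2) (AdicCompletion (maximalIdeal A) A))}) →ₐ[AdicCompletion (maximalIdeal A) A]
        AdicCompletion (maximalIdeal B) B)
    (hf : Function.Surjective f) : Function.Bijective f := by
  refine ⟨?_, hf⟩
  have : Module.Flat (AdicCompletion (maximalIdeal A) A) (AdicCompletion (maximalIdeal B) B) := RingHom.flat_algebraMap_iff.1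
    ((GrothLib.AdicExtra.flat_completion_iff (algebraMap (AdicCompletion (maximalIdeal A) A) (AdicCompletion (maximalIdeal B) B))
      (((IsScalarTower.algebraMap_eq A (AdicCompletion (maximalIdeal A) A) (AdicCompletion (maximalIdeal B) B)).symm).trans (IsScalarTower.algebraMap_eq A B (AdicCompletion (maximalIdeal B) B)))).2
      (RingHom.flat_algebraMap_iff.2 inferInstance))
  obtain ⟨π, hπs, hπ⟩ := exists_completion_quotient_map B ((maximalIdeal A).map (algebraMap A B))
  let e0 := RingEquiv.ofBijective _ (AdicCompletion.residueField_map_bijective A)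
  let res : (AdicCompletion (maximalIdeal A) A) →+* ResidueField A := e0.symm.toRingHom.comp (residue (AdicCompletion (maximalIdeal A) A))
  have hres : Function.Surjective res := e0.symm.surjective.comp residue_surjective
  have hres' : RingHom.ker res = maximalIdeal (AdicCompletion (maximalIdeal A) A) := by
    ext x
    rw [RingHom.mem_ker, RingHom.comp_apply, ← residue_eq_zero_iff]
    exact map_eq_zero_iff _ e0.symm.injective
  let χ := e.toRingHom.comp (π.comp (f.toRingHom.comp (Ideal.Quotient.mk _)))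
  have hsurj : Function.Surjective χ :=
    e.surjective.comp (hπs.comp (hf.comp Ideal.Quotient.mk_surjective))
  have hπ0 : (maximalIdeal (AdicCompletion (maximalIdeal A) A)).map (algebraMap (AdicCompletion (maximalIdeal A) A) (AdicCompletion (maximalIdeal B) B)) ≤ RingHom.ker π := by
    rw [map_maximal, IsScalarTower.algebraMap_eq A B (AdicCompletion (maximalIdeal B) B), ← Ideal.map_map, Ideal.map_le_iff_le_comap]
    intro b hb
    rw [Ideal.mem_comap, RingHom.mem_ker, hπ, Ideal.Quotient.eq_zero_iff_mem.2 hb, map_zero]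
  have hχC : ∀ a ∈ maximalIdeal (AdicCompletion (maximalIdeal A) A), χ (MvPowerSeries.C a) = 0 := fun a ha => by
    show e (π (f (algebraMap (AdicCompletion (maximalIdeal A) A) _ a))) = 0
    rw [f.commutes, RingHom.mem_ker.1 (hπ0 (Ideal.mem_map_of_mem _ ha)), map_zero]
  have hχ : χ (MvPowerSeries.X 0 * MvPowerSeries.X 1 - MvPowerSeries.C α) = 0 := by
    show e (π (f (Ideal.Quotient.mk (Ideal.span {(MvPowerSeries.X 0 * MvPowerSeries.X 1 - MvPowerSeries.C α : MvPowerSeries (Fin 2) (AdicCompletion (maximalIdeal A) A))}) _))) = 0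
    rw [Ideal.Quotient.eq_zero_iff_mem.2 (Ideal.mem_span_singleton_self _), map_zero, map_zero,
      map_zero]
  have hk := ker_le_of_surjective_fibre res hres hres' hα χ hsurj hχC hχ
  have : Nontrivial (MvPowerSeries (Fin 2) (AdicCompletion (maximalIdeal A) A) ⧸ Ideal.span {(MvPowerSeries.X 0 * MvPowerSeries.X 1 - MvPowerSeries.C α : MvPowerSeries (Fin 2) (AdicCompletion (maximalIdeal A) A))}) := f.toRingHom.domain_nontrivial
  have : IsLocalRing (MvPowerSeries (Fin 2) (AdicCompletion (maximalIdeal A) A) ⧸ Ideal.span {(MvPowerSeries.X 0 * MvPowerSeries.X 1 - MvPowerSeries.C α : MvPowerSeries (Fin 2) (AdicCompletion (maximalIdeal A) A))}) :=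
    IsLocalRing.of_surjective' _ Ideal.Quotient.mk_surjective
  have hle : (maximalIdeal (AdicCompletion (maximalIdeal A) A)).map (algebraMap (AdicCompletion (maximalIdeal A) A) (MvPowerSeries (Fin 2) (AdicCompletion (maximalIdeal A) A) ⧸ Ideal.span {(MvPowerSeries.X 0 * MvPowerSeries.X 1 - MvPowerSeries.C α : MvPowerSeries (Fin 2) (AdicCompletion (maximalIdeal A) A))})) ≤
      maximalIdeal _ := le_maximalIdeal fun h => by
    have h2 := congrArg (Ideal.map f.toRingHom) h
    rw [Ideal.map_top, Ideal.map_map] at h2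
    have h3 : f.toRingHom.comp (algebraMap (AdicCompletion (maximalIdeal A) A) (MvPowerSeries (Fin 2) (AdicCompletion (maximalIdeal A) A) ⧸ Ideal.span {(MvPowerSeries.X 0 * MvPowerSeries.X 1 - MvPowerSeries.C α : MvPowerSeries (Fin 2) (AdicCompletion (maximalIdeal A) A))})) = algebraMap (AdicCompletion (maximalIdeal A) A) (AdicCompletion (maximalIdeal B) B) :=
      RingHom.ext f.commutes
    rw [h3, map_maximal, IsScalarTower.algebraMap_eq A B (AdicCompletion (maximalIdeal B) B), ← Ideal.map_map] at h2
    have h4 : ((maximalIdeal A).map (algebraMap A B)).map (algebraMap B (AdicCompletion (maximalIdeal B) B)) ≤ maximalIdeal (AdicCompletion (maximalIdeal B) B) := by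
      rw [AdicCompletion.maximalIdeal_eq_map]
      exact Ideal.map_mono GrothLib.Flatness.map_maximalIdeal_le
    rw [h2, top_le_iff] at h4
    exact (Ideal.IsPrime.ne_top' : maximalIdeal (AdicCompletion (maximalIdeal B) B) ≠ ⊤) h4
  have hker : RingHom.ker f ≤ (maximalIdeal (AdicCompletion (maximalIdeal A) A)).map (algebraMap (AdicCompletion (maximalIdeal A) A) _) := fun q hq => by
    obtain ⟨x, rfl⟩ := Ideal.Quotient.mk_surjective q
    have hx : x ∈ RingHom.ker χ := by
      show e (π (f (Ideal.Quotient.mk (Ideal.span {(MvPowerSeries.X 0 * MvPowerSeries.X 1 - MvPowerSeries.C α : MvPowerSeries (Fin 2) (AdicCompletion (maximalIdeal A) A))}) x))) = 0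
      rw [RingHom.mem_ker.1 hq, map_zero, map_zero]
    have h5 := Ideal.mem_map_of_mem (Ideal.Quotient.mk (Ideal.span {(MvPowerSeries.X 0 * MvPowerSeries.X 1 - MvPowerSeries.C α : MvPowerSeries (Fin 2) (AdicCompletion (maximalIdeal A) A))})) (hk hx)
    rw [Ideal.map_sup, Ideal.map_quotient_self, sup_bot_eq, Ideal.map_map] at h5
    exact h5
  have := ker_eq_bot_of_flat (maximalIdeal (AdicCompletion (maximalIdeal A) A)) hle f hf hker
  exact (RingHom.injective_iff_ker_eq_bot f).2 this

end GrothLib.NodeNF
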