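import Groth.Agent.Lib.RegLoc.PowerSeries
import Groth.Agent.Lib.HLVT.Subring
import Groth.Agent.Lib.AdicExtra.Complete
import Groth.Agent.Lib.AdicExtra.Completion

/-!
# Normal form of a node over a complete local ring
-/

set_option linter.style.haveILetI false

universe u

open IsLocalRing

namespace GrothLib.NodeNF

theorem ringEndo_injective_of_surjective {R : Type*} [CommRing R] [IsNoetherianRing R] (f : R →+* R)
    (hf : Function.Surjective f) : Function.Injective f := by
  let g : ℕ → R →+* R := fun n => Nat.rec (RingHom.id R) (fun _ p => f.comp p) n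
  have hg : ∀ n, Function.Surjective (g n) := fun n => by
    induction n with
    | zero => exact Function.surjective_id
    | succ n ih => exact hf.comp ih
  have hmono : Monotone fun n => RingHom.ker (g n) := monotone_nat_of_le_succ fun n x hx => by
    rw [RingHom.mem_ker] at hx ⊢
    show f (g n x) = 0
    rw [hx, map_zero]
  obtain ⟨n, hn⟩ := monotone_stabilizes_iff_noetherian.2 ‹IsNoetherianRing R› ⟨_, hmono⟩
  rw [injective_iff_map_eq_zero]
  intro x hx
  obtain ⟨y, rfl⟩ := hg n x
  have h1 : y ∈ RingHom.ker (g (n + 1)) := hx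
  have h2 : RingHom.ker (g (n + 1)) = RingHom.ker (g n) := (hn (n + 1) n.le_succ).symm
  rw [h2] at h1
  exact h1

variable {R S : Type u} [CommRing R] [IsLocalRing R] [IsNoetherianRing R]
  [IsAdicComplete (maximalIdeal R) R] [CommRing S] [IsLocalRing S] [IsNoetherianRing S]
  [Algebra R S]

omit [IsNoetherianRing R] in
theorem exists_decomp (hres : ∀ y : S, ∃ c : R, y - algebraMap R S c ∈ maximalIdeal S) {u v : S}
    (hgen : maximalIdeal S = Ideal.span {u, v} ⊔ (maximalIdeal R).map (algebraMap R S)) (q : S) :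
    ∃ (c : R) (g h : S), q = algebraMap R S c + u * g + v * h := by
  set J : Ideal S := Ideal.span {u, v} with hJ
  let f : R →+* S ⧸ J := (Ideal.Quotient.mk J).comp (algebraMap R S)
  have hle : J ⊔ (maximalIdeal R).map (algebraMap R S) ≠ ⊤ := by
    rw [← hgen]; exact Ideal.IsPrime.ne_top'
  have : Nontrivial (S ⧸ J) := Ideal.Quotient.nontrivial_iff.2 fun h => hle (by rw [h, top_sup_eq])
  have : IsLocalRing (S ⧸ J) := IsLocalRing.of_surjective' _ Ideal.Quotient.mk_surjective
  have hf : (maximalIdeal R).map f = (maximalIdeal S).map (Ideal.Quotient.mk J) := by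
    rw [hgen, Ideal.map_sup, Ideal.map_quotient_self, bot_sup_eq, Ideal.map_map]
  have hne : (maximalIdeal R).map f ≠ ⊤ := by
    rw [hf, map_maximalIdeal_of_surjective _ Ideal.Quotient.mk_surjective]
    exact Ideal.IsPrime.ne_top'
  have : IsHausdorff ((maximalIdeal R).map f) (S ⧸ J) := IsHausdorff.of_isLocalRing _ _ hne
  have hsurj : Function.Surjective f := by
    refine surjective_of_mk_map_comp_surjective (I := maximalIdeal R) f fun z => ?_
    obtain ⟨w, rfl⟩ := Ideal.Quotient.mk_surjective z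
    obtain ⟨y, rfl⟩ := Ideal.Quotient.mk_surjective w
    obtain ⟨c, hc⟩ := hres y
    refine ⟨c, (Ideal.Quotient.eq.2 ?_)⟩
    rw [hf]
    have := neg_mem (Ideal.mem_map_of_mem (Ideal.Quotient.mk J) hc)
    simpa [f] using this
  obtain ⟨c, hc⟩ := hsurj (Ideal.Quotient.mk J q)
  obtain ⟨g, h, hgh⟩ := Ideal.mem_span_pair.1 (Ideal.Quotient.eq.1 hc.symm)
  exact ⟨c, g, h, by linear_combination -hgh⟩

omit [IsNoetherianRing R] in
theorem exists_decomp_of_mem (hres : ∀ y : S, ∃ c : R, y - algebraMap R S c ∈ maximalIdeal S) {u v : S}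
    (hgen : maximalIdeal S = Ideal.span {u, v} ⊔ (maximalIdeal R).map (algebraMap R S)) (J : Ideal R)
    {z : S} (hz : z ∈ J.map (algebraMap R S)) :
    ∃ c ∈ J, ∃ g ∈ J.map (algebraMap R S), ∃ h ∈ J.map (algebraMap R S),
      z = algebraMap R S c + u * g + v * h := by
  induction hz using Submodule.span_induction with
  | mem x hx =>
    obtain ⟨a, ha, rfl⟩ := hx
    exact ⟨a, ha, 0, zero_mem _, 0, zero_mem _, by ring⟩
  | zero => exact ⟨0, zero_mem _, 0, zero_mem _, 0, zero_mem _, by simp⟩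
  | add x y _ _ hx hy =>
    obtain ⟨c, hc, g, hg, h, hh, rfl⟩ := hx
    obtain ⟨c', hc', g', hg', h', hh', rfl⟩ := hy
    exact ⟨c + c', add_mem hc hc', g + g', add_mem hg hg', h + h', add_mem hh hh',
      by rw [map_add]; ring⟩
  | smul s x _ hx =>
    obtain ⟨c, hc, g, hg, h, hh, rfl⟩ := hx
    obtain ⟨d, g', h', rfl⟩ := exists_decomp hres hgen s
    have hcS := Ideal.mem_map_of_mem (algebraMap R S) hc
    refine ⟨d * c, J.mul_mem_left _ hc,
      g' * algebraMap R S c + (algebraMap R S d + u * g' + v * h') * g,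
      add_mem (Ideal.mul_mem_left _ _ hcS) (Ideal.mul_mem_left _ _ hg),
      h' * algebraMap R S c + (algebraMap R S d + u * g' + v * h') * h,
      add_mem (Ideal.mul_mem_left _ _ hcS) (Ideal.mul_mem_left _ _ hh), ?_⟩
    rw [smul_eq_mul, map_mul]
    ring

theorem span_pair_sup_eq {u v u' v' : S} {I : Ideal S} (hu : u' - u ∈ I) (hv : v' - v ∈ I) :
    Ideal.span {u', v'} ⊔ I = Ideal.span {u, v} ⊔ I := by
  have key : ∀ {a b a' b' : S}, a' - a ∈ I → b' - b ∈ I →
      Ideal.span {a', b'} ⊔ I ≤ Ideal.span {a, b} ⊔ I := by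
    intro a b a' b' ha hb
    refine sup_le (Ideal.span_le.2 ?_) le_sup_right
    rintro x (rfl | rfl)
    · have := Ideal.add_mem _ ((le_sup_left : _ ≤ Ideal.span {a, b} ⊔ I) (Ideal.subset_span
        (show a ∈ ({a, b} : Set S) by simp))) (Ideal.mem_sup_right ha)
      simpa using this
    · have := Ideal.add_mem _ ((le_sup_left : _ ≤ Ideal.span {a, b} ⊔ I) (Ideal.subset_span
        (show b ∈ ({a, b} : Set S) by simp))) (Ideal.mem_sup_right hb)
      simpa using this
  exact le_antisymm (key hu hv) (key (by simpa using neg_mem hu) (by simpa using neg_mem hv))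

omit [IsNoetherianRing R] in
theorem step (hres : ∀ y : S, ∃ c : R, y - algebraMap R S c ∈ maximalIdeal S) {u v u₀ v₀ : S}
    (hgen : maximalIdeal S = Ideal.span {u₀, v₀} ⊔ (maximalIdeal R).map (algebraMap R S))
    (hu : u - u₀ ∈ (maximalIdeal R).map (algebraMap R S))
    (hv : v - v₀ ∈ (maximalIdeal R).map (algebraMap R S)) {α : R} {n : ℕ}
    (h : u * v - algebraMap R S α ∈ (maximalIdeal R ^ (n + 1)).map (algebraMap R S)) :
    ∃ (u' v' : S) (α' : R), u' - u ∈ (maximalIdeal R ^ (n + 1)).map (algebraMap R S) ∧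
      v' - v ∈ (maximalIdeal R ^ (n + 1)).map (algebraMap R S) ∧ α' - α ∈ maximalIdeal R ^ (n + 1) ∧
      u' * v' - algebraMap R S α' ∈ (maximalIdeal R ^ (n + 1 + 1)).map (algebraMap R S) := by
  have hgen' : maximalIdeal S = Ideal.span {u, v} ⊔ (maximalIdeal R).map (algebraMap R S) := by
    rw [span_pair_sup_eq hu hv]; exact hgen
  obtain ⟨c, hc, g, hg, k, hk, hz⟩ := exists_decomp_of_mem hres hgen' _ h
  refine ⟨u - k, v - g, α + c, by simpa using hk, by simpa using hg, by simpa using hc, ?_⟩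
  have : (u - k) * (v - g) - algebraMap R S (α + c) = k * g := by
    rw [map_add]; linear_combination hz
  rw [this]
  have h2 := Ideal.mul_mem_mul hk hg
  rw [← Ideal.map_mul, ← pow_add] at h2
  exact Ideal.map_mono (Ideal.pow_le_pow_right (by omega)) h2

variable [IsAdicComplete (maximalIdeal S) S]

/-- The node can be put in the form `x * y = α`. -/
theorem exists_normal_form (hres : ∀ y : S, ∃ c : R, y - algebraMap R S c ∈ maximalIdeal S) {u₀ v₀ : S}
    (huv : u₀ * v₀ ∈ (maximalIdeal R).map (algebraMap R S))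
    (hgen : maximalIdeal S = Ideal.span {u₀, v₀} ⊔ (maximalIdeal R).map (algebraMap R S)) :
    ∃ (u v : S) (α : R), α ∈ maximalIdeal R ∧ u - u₀ ∈ (maximalIdeal R).map (algebraMap R S) ∧
      v - v₀ ∈ (maximalIdeal R).map (algebraMap R S) ∧ u * v = algebraMap R S α := by
  set I : Ideal S := (maximalIdeal R).map (algebraMap R S) with hI
  let P : ℕ → S × S × R → Prop := fun n t => t.1 - u₀ ∈ I ∧ t.2.1 - v₀ ∈ I ∧ t.2.2 ∈ maximalIdeal R ∧
    t.1 * t.2.1 - algebraMap R S t.2.2 ∈ (maximalIdeal R ^ (n + 1)).map (algebraMap R S)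
  have hP0 : P 0 (u₀, v₀, 0) := ⟨by simp, by simp, zero_mem _, by simpa [P] using huv⟩
  have hleI : ∀ n, (maximalIdeal R ^ (n + 1)).map (algebraMap R S) ≤ I := fun n =>
    Ideal.map_mono (Ideal.pow_le_self n.succ_ne_zero)
  have hstep : ∀ n t, P n t → ∃ t', P (n + 1) t' ∧
      t'.1 - t.1 ∈ I ^ (n + 1) ∧ t'.2.1 - t.2.1 ∈ I ^ (n + 1) ∧
      t'.2.2 - t.2.2 ∈ maximalIdeal R ^ (n + 1) := by
    rintro n ⟨u, v, α⟩ ⟨hu, hv, hα, h⟩
    obtain ⟨u', v', α', hu', hv', hα', h'⟩ := step hres hgen hu hv h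
    refine ⟨(u', v', α'), ⟨?_, ?_, ?_, h'⟩, ?_, ?_, hα'⟩
    · simpa using add_mem (hleI n hu') hu
    · simpa using add_mem (hleI n hv') hv
    · simpa using add_mem (Ideal.pow_le_self n.succ_ne_zero hα') hα
    · rwa [hI, ← Ideal.map_pow]
    · rwa [hI, ← Ideal.map_pow]
  choose! next hnext using hstep
  let s : ℕ → S × S × R := fun n => Nat.rec (u₀, v₀, 0) (fun k t => next k t) n
  have hs : ∀ n, P n (s n) := fun n => by
    induction n with
    | zero => exact hP0
    | succ n ih => exact (hnext n _ ih).1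
  have hle : I ≤ maximalIdeal S := by rw [hgen]; exact le_sup_right
  have hfg : I.FG := I.fg_of_isNoetherianRing
  have : IsAdicComplete I S := GrothLib.AdicExtra.isAdicComplete_of_le hle hfg
  have lim : ∀ {T : Type u} [CommRing T] (J : Ideal T) [IsAdicComplete J T] (x : ℕ → T),
      (∀ n, x (n + 1) - x n ∈ J ^ (n + 1)) → ∃ L, ∀ n, L - x n ∈ J ^ n := by
    intro T _ J _ x hx
    have hx' : ∀ {m n : ℕ}, m ≤ n → x n - x m ∈ J ^ m := by
      intro m n hmn
      induction hmn with
      | refl => simp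
      | @step k hk ih =>
        have := add_mem (Ideal.pow_le_pow_right (Nat.le.step hk) (hx k)) ih
        simpa using this
    obtain ⟨L, hL⟩ := IsPrecomplete.prec (I := J) inferInstance (f := x) fun {m n} hmn => by
      rw [SModEq.sub_mem, smul_eq_mul, Ideal.mul_top]
      simpa using neg_mem (hx' hmn)
    refine ⟨L, fun n => ?_⟩
    have := hL n
    rw [SModEq.sub_mem, smul_eq_mul, Ideal.mul_top] at this
    simpa using neg_mem this
  obtain ⟨u, hu⟩ := lim I (fun n => (s n).1) fun n => (hnext n _ (hs n)).2.1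
  obtain ⟨v, hv⟩ := lim I (fun n => (s n).2.1) fun n => (hnext n _ (hs n)).2.2.1
  obtain ⟨α, hα⟩ := lim (maximalIdeal R) (fun n => (s n).2.2) fun n => (hnext n _ (hs n)).2.2.2
  refine ⟨u, v, α, ?_, ?_, ?_, ?_⟩
  · simpa using add_mem (show α - (s 1).2.2 ∈ maximalIdeal R by simpa using hα 1) (hs 1).2.2.1
  · simpa using add_mem (show u - (s 1).1 ∈ I by simpa using hu 1) (hs 1).1
  · simpa using add_mem (show v - (s 1).2.1 ∈ I by simpa using hv 1) (hs 1).2.1
  refine sub_eq_zero.1 (IsHausdorff.haus (I := I) inferInstance _ fun n => ?_)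
  rw [SModEq.sub_mem, sub_zero, smul_eq_mul, Ideal.mul_top]
  have h1 : (s n).1 * (s n).2.1 - algebraMap R S (s n).2.2 ∈ I ^ n := by
    rw [hI, ← Ideal.map_pow]
    exact Ideal.map_mono (Ideal.pow_le_pow_right n.le_succ) (hs n).2.2.2
  have h2 : algebraMap R S (α - (s n).2.2) ∈ I ^ n := by
    rw [hI, ← Ideal.map_pow]; exact Ideal.mem_map_of_mem _ (hα n)
  have key : u * v - algebraMap R S α = ((s n).1 * (s n).2.1 - algebraMap R S (s n).2.2) +
      (u - (s n).1) * v + (s n).1 * (v - (s n).2.1) - algebraMap R S (α - (s n).2.2) := by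
    rw [map_sub]; ring
  rw [key]
  exact sub_mem (add_mem (add_mem h1 (Ideal.mul_mem_right _ _ (hu n)))
    (Ideal.mul_mem_left _ _ (hv n))) h2

/-- The map from the power series ring in two variables. -/
theorem exists_surjective (hres : ∀ y : S, ∃ c : R, y - algebraMap R S c ∈ maximalIdeal S) {u v : S}
    (hgen : maximalIdeal S = Ideal.span {u, v} ⊔ (maximalIdeal R).map (algebraMap R S)) :
    ∃ ψ : MvPowerSeries (Fin 2) R →ₐ[R] S, ψ (MvPowerSeries.X 0) = u ∧ ψ (MvPowerSeries.X 1) = v ∧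
      Function.Surjective ψ := by
  have hu : u ∈ maximalIdeal S := hgen ▸ Ideal.mem_sup_left (Ideal.subset_span (by simp))
  have hv : v ∈ maximalIdeal S := hgen ▸ Ideal.mem_sup_left (Ideal.subset_span (by simp))
  obtain ⟨ψ, hψ⟩ := GrothLib.RegLoc.PS.exists_algHom (A := R) (maximalIdeal S) ![u, v]
    (fun i => by fin_cases i <;> assumption)
  have h0 : ψ (MvPowerSeries.X 0) = u := hψ 0
  have h1 : ψ (MvPowerSeries.X 1) = v := hψ 1
  refine ⟨ψ, h0, h1, ?_⟩
  have hC : ∀ c, ψ (MvPowerSeries.C c) = algebraMap R S c := fun c => by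
    rw [← ψ.commutes c, MvPowerSeries.algebraMap_apply, Algebra.algebraMap_self_apply]
  have := GrothLib.HLVT.isAdicComplete_powerSeries R 2
  refine (GrothLib.RegLoc.surjective_of_cotangent ψ.toRingHom (fun z => ?_) ?_ ?_).1
  · obtain ⟨y, rfl⟩ := residue_surjective z
    obtain ⟨c, hc⟩ := hres y
    refine ⟨MvPowerSeries.C c, ?_⟩
    show residue S (ψ (MvPowerSeries.C c)) = _
    rw [hC, ← sub_eq_zero, ← map_sub, residue_eq_zero_iff]
    simpa using neg_mem hc
  · rw [Ideal.map_le_iff_le_comap]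
    intro x hx
    have hc : MvPowerSeries.constantCoeff x ∈ maximalIdeal R := by
      rw [mem_maximalIdeal, mem_nonunits_iff] at hx ⊢
      rwa [← MvPowerSeries.isUnit_iff_constantCoeff]
    have h2 : x - MvPowerSeries.C (MvPowerSeries.constantCoeff x) ∈
        Ideal.span (Set.range (MvPowerSeries.X : Fin 2 → MvPowerSeries (Fin 2) R)) := by
      have h3 : x - MvPowerSeries.C (MvPowerSeries.constantCoeff x) ∈
          RingHom.ker (MvPowerSeries.constantCoeff (σ := Fin 2) (R := R)) := by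
        rw [RingHom.mem_ker, map_sub, MvPowerSeries.constantCoeff_C, sub_self]
      rw [GrothLib.AdicFS.ker_constantCoeff, GrothLib.AdicFS.varsIdeal, MvPolynomial.idealOfVars,
        Ideal.map_span, ← Set.range_comp] at h3
      convert h3 using 3
      ext i : 1
      simp [MvPowerSeries.algebraMap_apply']
    have h4 : ψ (x - MvPowerSeries.C (MvPowerSeries.constantCoeff x)) ∈ maximalIdeal S := by
      refine Ideal.mem_comap.1 ((Ideal.map_le_iff_le_comap (f := ψ.toRingHom) (K := maximalIdeal S)).1 ?_ h2)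
      rw [Ideal.map_span, Ideal.span_le]
      rintro _ ⟨_, ⟨i, rfl⟩, rfl⟩
      fin_cases i
      · exact h0.symm ▸ hu
      · exact h1.symm ▸ hv
    have h5 : algebraMap R S (MvPowerSeries.constantCoeff x) ∈ maximalIdeal S := by
      rw [hgen]; exact Ideal.mem_sup_right (Ideal.mem_map_of_mem _ hc)
    rw [map_sub, hC] at h4
    show ψ x ∈ maximalIdeal S
    simpa using add_mem h4 h5
  · conv_lhs => rw [hgen]
    refine sup_le (le_sup_of_le_left (Ideal.span_le.2 ?_)) (le_sup_of_le_left ?_)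
    · rintro x (rfl | rfl)
      · exact h0 ▸ Ideal.mem_map_of_mem _ (by
          rw [mem_maximalIdeal, mem_nonunits_iff, MvPowerSeries.isUnit_iff_constantCoeff]; simp)
      · exact h1 ▸ Ideal.mem_map_of_mem _ (by
          rw [mem_maximalIdeal, mem_nonunits_iff, MvPowerSeries.isUnit_iff_constantCoeff]; simp)
    · rw [Ideal.map_le_iff_le_comap]
      intro a ha
      rw [Ideal.mem_comap]
      rw [← hC]
      refine Ideal.mem_map_of_mem ψ.toRingHom ?_
      rw [mem_maximalIdeal, mem_nonunits_iff, MvPowerSeries.isUnit_iff_constantCoeff,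
        MvPowerSeries.constantCoeff_C]
      exact ha

end GrothLib.NodeNF
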