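import Groth.Agent.Lib.NodeNF.Basic
import Groth.Agent.Lib.FibProp5.Completion
import Groth.Agent.Lib.RamSam.HeightOne

/-!
# Normal form of a node in the completion
-/

set_option linter.style.haveILetI false

universe u

open IsLocalRing

namespace GrothLib.NodeNF

section

variable (A B : Type u) [CommRing A] [IsLocalRing A] [IsNoetherianRing A]
  [CommRing B] [IsLocalRing B] [IsNoetherianRing B] [Algebra A B] [IsLocalHom (algebraMap A B)]
  [Algebra (AdicCompletion (maximalIdeal A) A) (AdicCompletion (maximalIdeal B) B)]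
  [IsScalarTower A (AdicCompletion (maximalIdeal A) A) (AdicCompletion (maximalIdeal B) B)]

local notation "Ah" => AdicCompletion (maximalIdeal A) A
local notation "Bh" => AdicCompletion (maximalIdeal B) B

omit [IsNoetherianRing B] [IsLocalHom (algebraMap A B)] in
theorem map_maximal :
    (maximalIdeal Ah).map (algebraMap Ah Bh) = (maximalIdeal A).map (algebraMap A Bh) := by
  rw [AdicCompletion.maximalIdeal_eq_map, Ideal.map_map, ← IsScalarTower.algebraMap_eq]

omit [IsNoetherianRing A] in
theorem exists_residue (hres : Function.Bijective (ResidueField.map (algebraMap A B))) (y : Bh) :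
    ∃ c : Ah, y - algebraMap Ah Bh c ∈ maximalIdeal Bh := by
  obtain ⟨r, hr⟩ := (AdicCompletion.residueField_map_bijective B).2 (residue _ y)
  obtain ⟨r', rfl⟩ := hres.2 r
  obtain ⟨a, rfl⟩ := residue_surjective r'
  rw [ResidueField.map_residue, ResidueField.map_residue] at hr
  refine ⟨algebraMap A Ah a, ?_⟩
  rw [← IsScalarTower.algebraMap_apply, IsScalarTower.algebraMap_apply A B Bh,
    ← residue_eq_zero_iff, map_sub, ← hr, sub_self]

omit [IsLocalHom (algebraMap A B)] in
theorem gen_completion (u v : B)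
    (hgen : maximalIdeal B = Ideal.span {u, v} ⊔ (maximalIdeal A).map (algebraMap A B)) :
    maximalIdeal Bh = Ideal.span {algebraMap B Bh u, algebraMap B Bh v} ⊔
      (maximalIdeal Ah).map (algebraMap Ah Bh) := by
  rw [map_maximal, AdicCompletion.maximalIdeal_eq_map, IsScalarTower.algebraMap_eq A B Bh,
    ← Ideal.map_map]
  refine (congrArg (Ideal.map (algebraMap B Bh)) hgen).trans ?_
  rw [Ideal.map_sup, Ideal.map_span, Set.image_pair]

/-- The normal form in the completion. -/
theorem exists_node_map (hres : Function.Bijective (ResidueField.map (algebraMap A B))) (u v : B)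
    (huv : u * v ∈ (maximalIdeal A).map (algebraMap A B))
    (hgen : maximalIdeal B = Ideal.span {u, v} ⊔ (maximalIdeal A).map (algebraMap A B)) :
    ∃ α : Ah, α ∈ maximalIdeal Ah ∧ ∃ ψ : MvPowerSeries (Fin 2) Ah →ₐ[Ah] Bh,
      Function.Surjective ψ ∧
      ψ (MvPowerSeries.X 0 * MvPowerSeries.X 1 - MvPowerSeries.C α) = 0 ∧
      ψ (MvPowerSeries.X 0) - algebraMap B Bh u ∈ (maximalIdeal A).map (algebraMap A Bh) ∧
      ψ (MvPowerSeries.X 1) - algebraMap B Bh v ∈ (maximalIdeal A).map (algebraMap A Bh) := by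
  have hres' := exists_residue A B hres
  have hgen' := gen_completion A B u v hgen
  have huv' : algebraMap B Bh u * algebraMap B Bh v ∈ (maximalIdeal Ah).map (algebraMap Ah Bh) := by
    rw [← map_mul, map_maximal, IsScalarTower.algebraMap_eq A B Bh, ← Ideal.map_map]
    exact Ideal.mem_map_of_mem _ huv
  obtain ⟨u', v', α, hα, hu, hv, h⟩ := exists_normal_form hres' huv' hgen'
  have hgen'' : maximalIdeal Bh = Ideal.span {u', v'} ⊔ (maximalIdeal Ah).map (algebraMap Ah Bh) := by
    rw [span_pair_sup_eq hu hv]; exact hgen'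
  obtain ⟨ψ, h0, h1, hs⟩ := exists_surjective hres' hgen''
  refine ⟨α, hα, ψ, hs, ?_, ?_, ?_⟩
  · rw [map_sub, map_mul, h0, h1, h, sub_eq_zero,
      show MvPowerSeries.C α = algebraMap Ah (MvPowerSeries (Fin 2) Ah) α from rfl, ψ.commutes]
  · rw [h0, ← map_maximal]; exact hu
  · rw [h1, ← map_maximal]; exact hv

end

end GrothLib.NodeNF
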